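import Cfsg.Agent.Comp.Cent
import Cfsg.Agent.Comp.F2
import Cfsg.Agent.Classical.SLCard

/-! Binary matrix groups acting on coded vectors: `Enc.vec` (bitmask encoding of `α → ZMod 2`), `matC` (matrix with given
column masks), `linAct Φ`, `prep_lin`, `codes_SL`, `codes_GL` (codes of linear permutations), `card_SL2F`. -/

set_option autoImplicit false

namespace Cfsg.Agent.Comp

open MulAction Matrix

variable {α : Type} {d : ℕ} (E : Enc α d) [Fintype α] [DecidableEq α]

/-- binary vectors as bitmasks. -/
noncomputable def Enc.vec : Enc (α → ZMod 2) (2 ^ d) where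
  enc v := (E.exists_word v).choose
  dec := E.word
  enc_lt v := (E.exists_word v).choose_spec.1
  dec_enc v := (E.exists_word v).choose_spec.2.symm
  enc_dec _ hi := E.word_inj (E.exists_word _).choose_spec.1 hi (E.exists_word _).choose_spec.2.symm

/-- the matrix with the columns `cols`. -/
def Enc.matC (cols : List ℕ) : Matrix α α (ZMod 2) := fun i j => E.word (nthL 0 cols (E.enc j)) i

theorem testBit_lin (b : ℕ) (cols : List ℕ) : ∀ s, (if (lin cols s).testBit b then 1 else 0 : ZMod 2) =
    ∑ j ∈ Finset.range cols.length, (if (nthL 0 cols j).testBit b then 1 else 0) * if s.testBit j then 1 else 0 := by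
  induction cols with
  | nil => intro s; simp [lin]
  | cons r cols ih =>
    intro s
    rw [List.length_cons, Finset.sum_range_succ', lin_cons, Nat.testBit_xor]
    simp only [Nat.add_comm _ 1, ← Nat.testBit_shiftRight]
    simp only [Nat.add_comm 1]
    change _ = ∑ j ∈ _, (if (nthL 0 cols j).testBit b then 1 else 0) * _ + (if r.testBit b then 1 else 0) * _
    rw [← ih]
    cases (lin cols (s >>> 1)).testBit b <;> cases s.testBit 0 <;> cases h : r.testBit b <;> simp [h] <;> rfl

omit [DecidableEq α] in
theorem Enc.matC_mulVec {cols : List ℕ} (h : lenL cols = d) (s : ℕ) : E.matC cols *ᵥ E.word s = E.word (lin cols s) := by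
  funext i
  rw [lenL_eq] at h
  rw [Enc.word, testBit_lin, h, ← Fin.sum_univ_eq_sum_range
    (fun j => (if (nthL 0 cols j).testBit (E.enc i) then 1 else 0 : ZMod 2) * if s.testBit j then 1 else 0)]
  exact Fintype.sum_equiv E.equivFin _ _ fun _ => rfl

/-- the action through a matrix representation. -/
abbrev linAct {G R : Type*} [Group G] [CommRing R] (Φ : G →* Matrix α α R) : MulAction G (α → R) where
  smul g v := Φ g *ᵥ v
  one_smul v := show Φ 1 *ᵥ v = v by rw [map_one, one_mulVec]
  mul_smul g h v := show Φ (g * h) *ᵥ v = Φ g *ᵥ Φ h *ᵥ v by rw [map_mul, mulVec_mulVec]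

theorem faithful_lin {G R : Type*} [Group G] [CommRing R] {Φ : G →* Matrix α α R} (h : Function.Injective Φ) :
    letI := linAct Φ; FaithfulSMul G (α → R) :=
  letI := linAct Φ; ⟨fun e => h (Matrix.ext_of_mulVec_single fun _ => e _)⟩

/-- the columns of a linear permutation. -/
def colsP (d w m c : ℕ) : List ℕ := mapL (fun j => get w m c (Nat.pow 2 j)) (List.range d)

/-- `c` is the code of a linear map. -/
def linOK (d w m c : ℕ) : Bool := forceL (colsP d w m c) fun l => allLt (Nat.pow 2 d) fun i =>
  force (get w m c i) fun a => band (Nat.blt a (Nat.pow 2 d)) (Nat.beq a (lin l i))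

variable {w m c : ℕ}

omit [DecidableEq α] in
theorem prep_lin {G : Type*} [Group G] [MulAction G (α → ZMod 2)] {g : G}
    (hg : ∀ v, g • v = E.matC (colsP d w m c) *ᵥ v) (h : linOK d w m c = true) : PRep E.vec w m c g := by
  refine PRep.of_forall_lt fun i hi => ?_
  simp only [linOK, forceL_eq, force_eq, allLt_iff, band_eq, Bool.and_eq_true, nblt, nbeq] at h
  change _ = E.vec.enc (g • E.word i)
  rw [hg, E.matC_mulVec (by simp [colsP]), ← (h i hi).2]
  exact (E.vec.enc_dec _ (h i hi).1).symm

theorem faithful_SL (α : Type) [Fintype α] [DecidableEq α] (R : Type*) [CommRing R] :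
    FaithfulSMul (SpecialLinearGroup α R) (α → R) := ⟨fun e => Subtype.ext (Matrix.ext_of_mulVec_single fun _ => e _)⟩

theorem faithful_GL (α : Type) [Fintype α] [DecidableEq α] (R : Type*) [CommRing R] :
    FaithfulSMul (GL α R) (α → R) := ⟨fun e => Units.ext (Matrix.ext_of_mulVec_single fun _ => e _)⟩

theorem det_matC (h : linOK d w m c = true) (h' : isPermP (Nat.pow 2 d) w m c = true) :
    (E.matC (colsP d w m c)).det = 1 := by
  have h1 := E.vec.toPerm_rep h'
  simp only [linOK, forceL_eq, force_eq, allLt_iff, band_eq, Bool.and_eq_true, nblt, nbeq] at h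
  have h2 : IsUnit (E.matC (colsP d w m c)) := mulVec_surjective_iff_isUnit.1 fun v => by
    obtain ⟨u, rfl⟩ := (E.vec.toPerm w m c).surjective v
    refine ⟨u, ?_⟩
    obtain ⟨s, hs, rfl⟩ := E.exists_word u
    rw [E.matC_mulVec (by simp [colsP]), ← (h s hs).2]
    exact (h1.smul_dec hs).symm
  exact (by decide : ∀ x : ZMod 2, x ≠ 0 → x = 1) _ ((isUnit_iff_isUnit_det _).1 h2).ne_zero

/-- `L` consists of codes of linear permutations. -/
def linL (d w m : ℕ) (L : List ℕ) : Bool := allL L fun c => band (linOK d w m c) (isPermP (Nat.pow 2 d) w m c)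

theorem codes_SL {L : List ℕ} (h : linL d w m L = true) :
    CodesIn (PRep E.vec w m) L (⊤ : Subgroup (SpecialLinearGroup α (ZMod 2))) := fun c hc => by
  have := allL_iff.1 h c hc
  rw [band_eq, Bool.and_eq_true] at this
  exact ⟨⟨_, det_matC E this.1 this.2⟩, trivial, prep_lin E (fun _ => rfl) this.1⟩

theorem codes_GL {L : List ℕ} (h : linL d w m L = true) :
    CodesIn (PRep E.vec w m) L (⊤ : Subgroup (GL α (ZMod 2))) := fun c hc =>
  let ⟨g, _, hr⟩ := codes_SL E h c hc; ⟨g.toGL, trivial, hr⟩

theorem card_SL2F (n : ℕ) (hn : 1 ≤ n) : Nat.card (SpecialLinearGroup (Fin n) (ZMod 2)) =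
    ∏ i : Fin n, (2 ^ n - 2 ^ (i : ℕ)) := by simpa using Classical.card_SL_mul (F := ZMod 2) n hn

end Cfsg.Agent.Comp
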