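import Cfsg.Agent.Comp.ES

/-! Local structure in models: `Mdl.congr` (transport a model along an isomorphism), `codes_ker`, `exists_surj_words`, `ES_ker` (the kernel of
a coded surjection is extraspecial), `quot_center_equiv'`, `sets_P`. -/

set_option autoImplicit false

namespace Cfsg.Agent.Comp

open MulAction Subgroup PGrp Equiv Cfsg.Agent.Known

theorem _root_.Cfsg.Agent.Known.Mdl.congr {Γ Γ' : Type*} [Group Γ] [Group Γ'] {φ : Γ →* Perm ℕ} {N k n : ℕ} {y : ℕ → Γ}
    {act : ℕ → ℕ → ℕ} {B : List ℕ} (M : Mdl φ N k n y act B) (e : Γ' ≃* Γ) :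
    Mdl (φ.comp e.toMonoidHom) N k n (fun j => e.symm (y j)) act B := by
  refine ⟨fun a => M.fix (e a), ?_, fun g hg => ?_, ?_, (Nat.card_congr e.toEquiv).trans M.card, M.pos⟩
  · rintro j _ a z rfl hz
    have := M.hy (c := j) rfl hz
    rwa [← e.apply_symm_apply (y j)] at this
  · exact e.injective ((M.base (e g) hg).trans (map_one e).symm)
  · have := map_genL e.symm.toMonoidHom y (List.range k)
    rw [M.top, map_top_of_surjective _ e.symm.surjective] at this
    exact this.symm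

theorem quot_center_equiv' {G : Type*} [Group G] (h : Nat.card (center G) = 1) : Nonempty (G ⧸ center G ≃* G) :=
  ⟨(QuotientGroup.quotientMulEquivOfEq (card_eq_one.1 h)).trans QuotientGroup.quotientBot⟩

theorem not_comm_of_card {H : Type*} [Group H] [IsSimpleGroup H] {n : ℕ} (hc : Nat.card H = n) (hn : ¬ n.Prime) :
    ¬ IsMulCommutative H := fun h =>
  letI : CommGroup H := { (inferInstance : Group H) with mul_comm := h.1.1 }
  hn (hc ▸ IsSimpleGroup.prime_card)

variable {G X : Type*} [Group G] [MulAction G X] {R : ℕ → G → Prop}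

/-- the codes `L` fix the points `vs`. -/
def fixOK (C : Keyed R X) (L : List ℕ) (N : ℕ) (vs : ℕ → ℕ) : Bool :=
  allL L fun c => force c fun c => allLt N fun i => force (vs i) fun v => Nat.beq (C.key (C.act c v)) (C.key v)

theorem fixOK_iff {C : Keyed R X} {L : List ℕ} {N : ℕ} {vs : ℕ → ℕ} :
    fixOK C L N vs = true ↔ ∀ c ∈ L, ∀ i < N, C.key (C.act c (vs i)) = C.key (vs i) := by
  simp only [fixOK, allL_iff, force_eq, allLt_iff, nbeq]

theorem codes_ker (C : Keyed R X) {K : Subgroup G} {H : Type*} [Group H] {π : K →* H} {N : ℕ} {vs : ℕ → ℕ}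
    (hπ : ∀ g, g ∈ π.ker ↔ ∀ i < N, ∀ x, C.P (vs i) x → (g : G) • x = x) {L : List ℕ} (hL : CodesIn R L K)
    (h : fixOK C L N vs = true) : CodesIn (fun c (g : K) => R c g) L π.ker := fun c hc =>
  let ⟨g, hg, r⟩ := hL c hc
  ⟨⟨g, hg⟩, (hπ _).2 fun i hi _ hx => (C.smul_eq_iff r hx hx).2 (fixOK_iff.1 h c hc i hi), r⟩

/-- a surjection onto a model; the generators act like the words `us`. -/
theorem exists_surj_words (C : Keyed R X) (hR : ∀ ⦃c g g'⦄, R c g → R c g' → g = g') {L : List ℕ} {K : Subgroup G}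
    [Finite K] (hK : CodesIn R L K) (hcl : closure (genSet R L) = K) {N : ℕ} {vs : ℕ → ℕ}
    (hv : ∀ i < N, ∃ x, C.P (vs i) x) (hinj : ∀ i < N, ∀ j < N, C.key (vs i) = C.key (vs j) → i = j)
    {Γ : Type*} [Group Γ] {φ : Γ →* Perm ℕ} {k n : ℕ} {y : ℕ → Γ} {act : ℕ → ℕ → ℕ} {B : List ℕ} (M : Mdl φ N k n y act B)
    (us ws : List (List ℕ)) (B' : List ℕ) (h : band (tabsOK C L N vs fun j => actW act (nthL [] us j))
      (chainW N (lenL L) (fun j => actW act (nthL [] us j)) ws B' n) = true) :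
    ∃ ψ : K →* Γ, Function.Surjective ψ ∧ ∀ g, g ∈ ψ.ker ↔ ∀ i < N, ∀ x, C.P (vs i) x → (g : G) • x = x := by
  rw [band_eq, Bool.and_eq_true] at h
  exact exists_surj_of_tabs C hR hK hcl hv hinj h.1 M.card M.pos.ne' ws B' h.2 φ id (fun j => W y (nthL [] us j))
    (fun _ _ _ _ e => e) fun _ _ _ hi => M.applyW _ hi

variable {α : Type*} {n : ℕ} {E : Enc α n} {w m : ℕ} [MulAction G α]

open scoped Pointwise in
theorem sets_P [DecidableEq α] {k v u : ℕ} (hm : u + 1 = 2 ^ v) (hv : n ≤ 2 ^ v) {N : ℕ} {vs : ℕ → ℕ}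
    (h : allLt N (fun i => force (vs i) fun a => allLt k fun j => Nat.blt (get v u a j) n) = true) :
    ∀ i < N, ∃ S, ((keyedPt E w m G).sets k hm fun _ x e => e ▸ (E.enc_lt x).trans_le hv).P (vs i) S := fun i hi => by
  simp only [allLt_iff, force_eq, nblt] at h
  refine ⟨(Finset.range k).image fun j => E.dec (get v u (vs i) j), fun j hj => ⟨_, (E.enc_dec _ (h i hi j hj)).symm⟩, fun x => ?_⟩
  simp only [Finset.mem_image, Finset.mem_range]
  exact exists_congr fun j => and_congr_right fun hj => ⟨fun e => e ▸ (E.enc_dec _ (h i hi j hj)).symm,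
    fun e => by rw [show get v u (vs i) j = E.enc x from e, E.dec_enc]⟩

theorem ES_ker (C : Keyed (PRep E w m : ℕ → G → Prop) X) {K : Subgroup G} [Finite K] {H : Type*} [Group H] {π : K →* H}
    {N : ℕ} {vs : ℕ → ℕ} (hπ : Function.Surjective π ∧ ∀ g, g ∈ π.ker ↔ ∀ i < N, ∀ x, C.P (vs i) x → (g : G) • x = x)
    {L B : List ℕ} (hL : CodesIn (PRep E w m) L K) {c : ℕ} {z : K} (hz : PRep E w m c (z : G))
    (hB : ∀ g : G, (∀ x, E.enc x ∈ B → g • x = x) → g = 1) {a b k : ℕ} (hK : Nat.card K = a) (hH : Nat.card H = b)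
    (h : band (band (Nat.blt 0 b) (Nat.beq a (Nat.mul b (Nat.pow 2 (Nat.succ k))))) (band (fixOK C (c :: L) N vs)
      (esChk n w m L c B k)) = true) : Nat.card π.ker = 2 ^ (k + 1) ∧ IsExtraspecial 2 π.ker ∧
      CodesIn (PRep E w m) L π.ker ∧ ∃ hz : z ∈ π.ker, IsES 2 (⟨z, hz⟩ : π.ker) ∧ center π.ker = zpowers ⟨z, hz⟩ := by
  simp only [band_eq, Bool.and_eq_true, nblt, nbeq] at h
  have h1 := card_mul_card_ker hπ.1
  rw [hK, hH, h.1.2] at h1
  have h2 := Nat.eq_of_mul_eq_mul_left h.1.1 h1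
  have h3 : z ∈ π.ker := (hπ.2 _).2 fun i hi _ hx => (C.smul_eq_iff hz hx hx).2
    (fixOK_iff.1 h.2.1 c List.mem_cons_self i hi)
  have h4 := codes_ker C hπ.2 hL (allL_iff.2 fun c hc => allL_iff.1 h.2.1 c (List.mem_cons_of_mem _ hc))
  have := ES_of_codes (G := K) h4 (z := ⟨z, h3⟩) hz (fun g h => Subtype.ext (hB g h)) h2 h.2.2
  exact ⟨h2, this.1, h4, h3, this.2⟩

end Cfsg.Agent.Comp
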