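import Cfsg.Agent.Comp.Lin
import Cfsg.Agent.Comp.Pres
import Cfsg.Agent.Known.P.Tv

/-! The centraliser of a transvection in `SL(5,2)`: order `card_equiv` and an isomorphism with the presented
group `Known.TvP.G`. -/

set_option autoImplicit false

namespace Cfsg.Agent.Comp.Tv

open Matrix

def LG : List ℕ := [1015300258424456133750060374558444009271576655392, 1346928303027772358271387361713260515515173710400]
def LS : List ℕ := [1038531182709729576689529104032981183913303050272, 1415692895568631373389430061425573447181573130272, 894238614372998066582473396163874901859906979872, 1459980823972083588944311237641416818695746979872, 1415692757960514902480047450486018892550282250272, 473752087109600179901428325694150892753508850720]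

theorem par : Par (2 ^ 5) 5 31 := ⟨by decide, by decide⟩

theorem card_equiv (s : SpecialLinearGroup (Fin 5) (ZMod 2))
    (hs : (s : Matrix (Fin 5) (Fin 5) (ZMod 2)) = transvection 0 1 1) :
    Nat.card (Subgroup.centralizer {s}) = 21504 ∧ Nonempty (Known.TvP.G ≃* Subgroup.centralizer {s}) := by
  have := faithful_SL (Fin 5) (ZMod 2)
  have h1 : PRep (encFin 4).vec 5 31 1415736103303659633638305226116889076982748351520 s :=
    prep_lin _ (fun v => congrArg (· *ᵥ v) (hs.trans (by decide +kernel))) (by decide +kernel)
  have h2 := (codes_SL (encFin 4) (L := LS) (by decide +kernel)).centralizer (isGrp_PRep _ par)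
    (fun _ _ _ h h' => h.unique h') h1 (by decide +kernel)
  obtain ⟨h3, h4⟩ := card_closure_of_le par h2 [2, 4, 8, 16] [] (card_cent_le_class par
    (codes_SL (encFin 4) (L := LG) (by decide +kernel)) h1 (c := 9999360) (N := 21504)
    (Subgroup.card_top.trans ((card_SL2F 5 (by decide)).trans (by decide))) [24, 6, 19, 7, 5] 12 465 (get 12 (2 ^ 12 - 1) (Spor.joinL 4096 [nat_lit 0xf32803904f09c0632590882db07d08501120f06e53e01027a26a22b3a70840181de15f0830d42693af07b45d4201f908004902410107803024e12305b16c0270be27d0050ba1210ed2801d00524fe0412871f10361d728212b29e12f1b807e4260400640892dc2e13160e91415c62751bb11d01e1430952c00eb1291080dc01d1072992120fe0260820c931900904801604d4bf1fd0de09618c3c512a1ea1ee08728313f2ed27e11b1fe2391331060171744063a009421a02b1fa0a22e916b0022445b30a609f0a013202108e0b72d904643c0994732743ba28f01320111000f0b63a506d0fc0c812709303b03f1d411607c13d3e40d90af13c1341d237b37903c25a2a680e3bc9101451ac4de03403d00708631501c40344624a00e14c10c19126242513550735900607f2560232e81bd11e1e202e1cf2495b90314c105337712004e0191280c506a1dc0dd1091400e822e53d2331b701221105f14f4fd3fb0770ee0f82654fc0912641f607487909007512608a08c0b20c70b90140a916504313037a23e05716e52117332a1156fb22204c1942de0420ca02514721821d27c49d0981e113e05e1522cc5421f724803a0005fb7600200039bd05a06949c10b0543a900a0fb28a12e4c509718a0452760470622a017e0500150b82171bc09b2662e22150ea3270440a81644dd2020924ac2900512432aa1db5010600a500b2d8,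
    nat_lit 0x1000aa2550f00b175425e19010596d19310a0f50fa02204b01f00816d1f212c0db25403e62c25f4b637110e26007a07926e2630d51240e705c0282ac0f429d2810350f64e97fb21e40a0580290a314439f00405d43e06c1199d409a2681d309e15424d90f0c602f07602c3bb08d3a207317613937d00c1310b51dd9fc0c14874940d300d00104a08f42f2fd0a12042cb14e09d1ed01a11c1e93fd0d65084ab02d0a73a81551364311700c43ee65213a4f51b326b1be06198029]))
    (by decide +kernel)) (by decide +kernel)
  rw [top_inf_eq] at h2 h3 h4
  exact ⟨h3, equiv_of_lifts Known.TvP.lifts par h2 h4 base_all (by decide +kernel) Known.TvP.card h3 (by decide)⟩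

end Cfsg.Agent.Comp.Tv
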